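import Groth.Agent.CAlg6.MoriMain

/-!
The integral closure is the intersection of its localizations at height-one primes, from Mori's theorem.
-/

set_option autoImplicit false
set_option linter.style.haveILetI false
universe u

namespace Groth.Agent.HtOne31

variable {A : Type u} [CommRing A] [IsDomain A] [IsNoetherianRing A]

omit [IsDomain A] [IsNoetherianRing A] in
theorem isIntegral_of_local (x : FractionRing A)
    (h : ∀ (m : Ideal A) [m.IsMaximal], ∃ t : A, t ∉ m ∧ IsIntegral A (algebraMap A (FractionRing A) t * x)) :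
    IsIntegral A x := by
  let I : Ideal A := (Subalgebra.toSubmodule (integralClosure A (FractionRing A))).comap
    (LinearMap.toSpanSingleton A (FractionRing A) x)
  have hI : I = ⊤ := by
    by_contra hne
    obtain ⟨m, hm, hIm⟩ := Ideal.exists_le_maximal I hne
    obtain ⟨t, ht, hti⟩ := h m
    refine ht (hIm ?_)
    show t • x ∈ integralClosure A (FractionRing A)
    rwa [Algebra.smul_def]
  have h1 : (1 : A) • x ∈ integralClosure A (FractionRing A) := (Ideal.eq_top_iff_one I).1 hI
  rwa [one_smul] at h1

omit [IsNoetherianRing A] in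
theorem exists_smul_mem (m : Ideal A) [m.IsPrime] (C' : Subalgebra (Localization.AtPrime m) (FractionRing A))
    (g : Finset (FractionRing A)) (hg : Algebra.adjoin (Localization.AtPrime m) (g : Set (FractionRing A)) = C')
    (C : Subalgebra A (FractionRing A)) (hgC : ∀ z ∈ g, ∃ s : A, s ∉ m ∧ s • z ∈ C)
    (z : FractionRing A) (hz : z ∈ C') : ∃ s : A, s ∉ m ∧ s • z ∈ C := by
  rw [← hg] at hz
  induction hz using Algebra.adjoin_induction with
  | mem z hz => exact hgC z hz
  | algebraMap c =>
    obtain ⟨a, s, rfl⟩ := IsLocalization.exists_mk'_eq m.primeCompl c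
    refine ⟨s, s.2, ?_⟩
    rw [← algebraMap_smul (Localization.AtPrime m) (s : A), Algebra.smul_def, ← map_mul,
      IsLocalization.mk'_spec',
      ← IsScalarTower.algebraMap_apply]
    exact C.algebraMap_mem a
  | add u v _ _ hu hv =>
    obtain ⟨s, hs, hsu⟩ := hu
    obtain ⟨t, ht, htv⟩ := hv
    refine ⟨s * t, fun h => (‹m.IsPrime›.mem_or_mem h).elim hs ht, ?_⟩
    rw [smul_add]
    exact add_mem (by rw [mul_comm, mul_smul]; exact C.smul_mem hsu t) (by rw [mul_smul]; exact C.smul_mem htv s)
  | mul u v _ _ hu hv =>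
    obtain ⟨s, hs, hsu⟩ := hu
    obtain ⟨t, ht, htv⟩ := hv
    refine ⟨s * t, fun h => (‹m.IsPrime›.mem_or_mem h).elim hs ht, ?_⟩
    rw [← smul_mul_smul_comm]
    exact mul_mem hsu htv

/-- Mori's criterion, in an arbitrary fraction field. -/
theorem exists_mori (B : Type u) [CommRing B] [IsDomain B] [IsNoetherianRing B] [IsLocalRing B]
    (K : Type u) [Field K] [Algebra B K] [IsFractionRing B K] :
    ∃ C' : Subalgebra B K, Module.Finite B C' ∧ ∀ x : K,
      (∀ (p : Ideal C') [p.IsPrime], p.height = 1 → ∃ s : C', s ∉ p ∧ IsIntegral C' ((s : K) * x)) →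
        IsIntegral B x := by
  let φ := FractionRing.algEquiv B K
  obtain ⟨C₀, hfin, -, hb, -⟩ := CAlg6.Mori.mori B
  let e : C₀ ≃ₐ[B] C₀.map φ.toAlgHom := φ.subalgebraMap C₀
  refine ⟨C₀.map φ.toAlgHom, Module.Finite.equiv e.toLinearEquiv, fun x hx => ?_⟩
  have : Module.Finite B (C₀.map φ.toAlgHom) := Module.Finite.equiv e.toLinearEquiv
  have hxC₀ : φ.symm x ∈ integralClosure B (FractionRing B) := by
    refine (hb (φ.symm x)).2 fun p _ hp => ?_
    have hP : (p.comap e.symm.toRingEquiv.toRingHom).height = 1 := by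
      rw [← hp]; exact RingEquiv.height_comap e.symm.toRingEquiv p
    obtain ⟨s, hs, hsx⟩ := hx (p.comap e.symm.toRingEquiv.toRingHom) hP
    refine ⟨e.symm s, hs, ?_⟩
    have h1 : IsIntegral B ((s : K) * x) := isIntegral_trans _ hsx
    have h2 := h1.map φ.symm.toAlgHom
    refine IsIntegral.tower_top (R := B) ?_
    convert h2 using 1
    rw [AlgEquiv.toAlgHom_apply, map_mul]
    congr 1
  have := ((mem_integralClosure_iff B (FractionRing B)).1 hxC₀).map φ.toAlgHom
  simpa using this

theorem main
    (h : ∀ C : Subalgebra A (FractionRing A), C ≤ integralClosure A (FractionRing A) → Module.Finite A C →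
      ∀ (q : Ideal C) [q.IsPrime], q.height = 1 → (q.comap (algebraMap A C)).height = 1)
    (x : FractionRing A)
    (hx : ∀ p : PrimeSpectrum A, p.asIdeal.height = 1 → ∃ s : A, s ∉ p.asIdeal ∧
      IsIntegral A (algebraMap A (FractionRing A) s * x)) : IsIntegral A x := by
  classical
  refine isIntegral_of_local x fun m hm => ?_
  set Am := Localization.AtPrime m
  obtain ⟨C', hC'fin, hmori⟩ := exists_mori Am (FractionRing A)
  obtain ⟨g, hg⟩ := Subalgebra.fg_of_fg_toSubmodule (Module.Finite.iff_fg.1 (inferInstance : Module.Finite Am C'))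
  have hgi : ∀ z ∈ g, IsIntegral Am z := fun z hz => by
    have hzC : z ∈ C' := hg ▸ Algebra.subset_adjoin hz
    exact (IsIntegral.of_finite Am (⟨z, hzC⟩ : C')).map C'.val
  choose t ht using fun z : g =>
    IsIntegral.exists_multiple_integral_of_isLocalization m.primeCompl (z : FractionRing A) (hgi z z.2)
  let T : Finset (FractionRing A) := Finset.univ.image fun z : g => (t z : A) • (z : FractionRing A)
  let C : Subalgebra A (FractionRing A) := Algebra.adjoin A (T : Set (FractionRing A))
  have hT : ∀ z ∈ (T : Set (FractionRing A)), IsIntegral A z := by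
    intro z hz
    obtain ⟨w, -, rfl⟩ := Finset.mem_image.1 (Finset.mem_coe.1 hz)
    simpa [Submonoid.smul_def] using ht w
  have hCle : C ≤ integralClosure A (FractionRing A) := Algebra.adjoin_le fun z hz => hT z hz
  have hCfin : Module.Finite A C :=
    Module.Finite.iff_fg.2 (fg_adjoin_of_finite T.finite_toSet hT)
  have hsm : ∀ z ∈ C', ∃ s : A, s ∉ m ∧ s • z ∈ C := exists_smul_mem m C' g hg C fun z hz =>
    ⟨t ⟨z, hz⟩, (t ⟨z, hz⟩).2, Algebra.subset_adjoin (Finset.mem_coe.2 (Finset.mem_image.2 ⟨⟨z, hz⟩, Finset.mem_univ _, rfl⟩))⟩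
  have hCC' : C ≤ C'.restrictScalars A := Algebra.adjoin_le fun z hz => by
    obtain ⟨w, -, rfl⟩ := Finset.mem_image.1 (Finset.mem_coe.1 hz)
    have : (w : FractionRing A) ∈ C' := hg ▸ Algebra.subset_adjoin w.2
    show (t w : A) • (w : FractionRing A) ∈ C'
    rw [← algebraMap_smul Am (t w : A)]
    exact C'.smul_mem this _
  let incl : C →+* C' := (Subalgebra.inclusion hCC').toRingHom
  letI : Algebra C C' := incl.toAlgebra
  let S : Submonoid C := Algebra.algebraMapSubmonoid C m.primeCompl
  haveI : IsLocalization S C' := by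
    rw [isLocalization_iff]
    refine ⟨?_, fun z => ?_, ?_⟩
    · rintro ⟨_, a, ha, rfl⟩
      have hu : IsUnit (algebraMap A Am a) := IsLocalization.map_units Am (⟨a, ha⟩ : m.primeCompl)
      have := hu.map (algebraMap Am C')
      convert this
      exact Subtype.ext (IsScalarTower.algebraMap_apply A Am (FractionRing A) a)
    · obtain ⟨s, hs, hsz⟩ := hsm z z.2
      refine ⟨(⟨_, hsz⟩, ⟨algebraMap A C s, s, hs, rfl⟩), Subtype.ext ?_⟩
      show (z : FractionRing A) * algebraMap A (FractionRing A) s = s • (z : FractionRing A)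
      rw [Algebra.smul_def, mul_comm]
    · intro a b hab
      refine ⟨1, ?_⟩
      have h' : (incl a : FractionRing A) = (incl b : FractionRing A) := congrArg Subtype.val hab
      have : (a : FractionRing A) = b := h'
      rw [Subtype.ext this]
  have hint : IsIntegral Am x := by
    refine hmori x fun p _ hp => ?_
    have hq : (p.comap incl).height = 1 := by
      rw [← hp]; exact IsLocalization.height_under S p
    obtain ⟨s, hs, hsx⟩ := hx ⟨(p.comap incl).comap (algebraMap A C), inferInstance⟩ (h C hCle hCfin _ hq)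
    refine ⟨incl (algebraMap A C s), hs, ?_⟩
    show IsIntegral C' (algebraMap A (FractionRing A) s * x)
    exact (hsx.tower_top (A := Am)).tower_top
  obtain ⟨u, hu⟩ := IsIntegral.exists_multiple_integral_of_isLocalization m.primeCompl x hint
  exact ⟨u, u.2, by simpa [Submonoid.smul_def, Algebra.smul_def] using hu⟩

end Groth.Agent.HtOne31
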